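import Cfsg.Agent.H780.D4.Stmts

/-!
# S5261 (`³D₄(q)`), task D3-L2: `StL2` from `StL2a`, `StNLift`, `StGrpD`

Plan: `tools/plans/S5261_L.md`, section 9 (helper780). `C` is the group of the automorphisms of `Q₂` acting trivially on
`Q₂/Z₃`, `Z₃/Z₂`, `Z₂`; `D₁` the group of the restrictions of the torus elements; `C_C(D₁) = 1`; the Weyl element normalizes
`D₁`.
-/

set_option autoImplicit false
set_option linter.unusedSectionVars false

namespace Cfsg.Agent.H640.D4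

open Cfsg Cfsg.FusionSystem Cfsg.Agent.H765.D3 Cfsg.Agent.H780.D4
open Cfsg.Agent.H765.D3.Sy
open Cfsg.Agent.Hex.Defs (sh cr nm tr)
open Cfsg.Agent.H756.PU (Inv Ess NormAut TIAut AF)
open scoped commutatorElement

universe u

variable {F K : Type u} [Field F] [Field K] [Algebra F K] {φ : K ≃ₐ[F] K} [Cub φ]

/-! ### `Z₂` and `Z₃` are characteristic in `Q₂` -/

theorem coe_comm (x y : Q2 φ) : ((⁅x, y⁆ : Q2 φ) : Sy φ) = ⁅(x : Sy φ), (y : Sy φ)⁆ := by
  rw [commutatorElement_def, commutatorElement_def]; rfl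

theorem comm_x3_Q2 {x y : Sy φ} (hx : x ∈ Q2 φ) (hy : y ∈ Q2 φ) :
    (⁅x, y⁆).x3 = cr φ x.x1 y.x5 - cr φ y.x1 x.x5 := by
  have hx' : x.x6 = 0 := hx
  have hy' : y.x6 = 0 := hy
  have := congrArg Sy.x3 (comm_mul x y)
  rw [mul_x3, mul_x3, mul_x3, comm_x1, hx', hy', mul_x6, hx', hy'] at this
  simp only [cr_zero_left, zero_smul, add_zero] at this
  linear_combination -this

theorem comm_Q2_mem {x y : Sy φ} (hx : x ∈ Q2 φ) (hy : y ∈ Q2 φ) : ⁅x, y⁆ ∈ Z3 φ := by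
  have hx' : x.x6 = 0 := hx
  have hy' : y.x6 = 0 := hy
  refine ⟨comm_x1 x y, comm_x6 x y, ?_⟩
  rw [comm_x5, hx', hy']; simp

theorem mem_Z2_iff' {x : Q2 φ} : (x : Sy φ) ∈ Z2 φ ↔ ∀ y : Q2 φ, ⁅x, y⁆ = 1 := by
  rw [← centralizer_Q2, mem_centralizer]
  constructor
  · intro h y
    apply Subtype.ext
    rw [coe_comm]
    exact h y y.2
  · intro h y hy
    have := congrArg Subtype.val (h ⟨y, hy⟩)
    rw [coe_comm] at this
    exact this

theorem mem_Z3_iff' {x : Q2 φ} : (x : Sy φ) ∈ Z3 φ ↔ ∀ y : Q2 φ, ((⁅x, y⁆ : Q2 φ) : Sy φ) ∈ Z2 φ := by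
  constructor
  · intro h y
    rw [coe_comm, ← commutatorElement_inv]
    exact (Z2 φ).inv_mem (comm_mem_Z2 h)
  · intro h
    have h1 : ∀ y ∈ Q2 φ, cr φ (x : Sy φ).x1 y.x5 - cr φ y.x1 (x : Sy φ).x5 = 0 := by
      intro y hy
      have := h ⟨y, hy⟩
      rw [coe_comm] at this
      rw [← comm_x3_Q2 x.2 hy]
      exact this.2.2.2
    refine ⟨?_, x.2, ?_⟩
    · apply cr_nondeg' φ
      intro a
      have := h1 _ (Z4_le_Q2 (u5_mem (φ := φ) a))
      simpa [u5, cr_zero_left] using this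
    · apply cr_nondeg φ
      intro a
      have := h1 _ (u1_mem (φ := φ) a)
      simpa [u1, cr_zero_right] using this

theorem map_comm' (γ : MulAut (Q2 φ)) (x y : Q2 φ) : γ ⁅x, y⁆ = ⁅γ x, γ y⁆ := map_commutatorElement _ _ _

theorem inv_apply_self' (γ : MulAut (Q2 φ)) (x : Q2 φ) : γ (γ⁻¹ x) = x := MulAut.apply_inv_self _ γ x

theorem aut_Z2 (γ : MulAut (Q2 φ)) {x : Q2 φ} (hx : (x : Sy φ) ∈ Z2 φ) : ((γ x : Q2 φ) : Sy φ) ∈ Z2 φ := by
  rw [mem_Z2_iff'] at hx ⊢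
  intro y
  have := hx (γ⁻¹ y)
  have h2 := congrArg γ this
  rw [map_comm', inv_apply_self', map_one] at h2
  exact h2

theorem aut_Z3 (γ : MulAut (Q2 φ)) {x : Q2 φ} (hx : (x : Sy φ) ∈ Z3 φ) : ((γ x : Q2 φ) : Sy φ) ∈ Z3 φ := by
  rw [mem_Z3_iff'] at hx ⊢
  intro y
  have h2 := aut_Z2 γ (hx (γ⁻¹ y))
  rw [map_comm', inv_apply_self'] at h2
  exact h2

/-! ### the stabilizer of the chain -/

/-- acting trivially on the factors -/
def Tr2 (γ : MulAut (Q2 φ)) : Prop :=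
  (∀ e : Q2 φ, ((e⁻¹ * γ e : Q2 φ) : Sy φ) ∈ Z3 φ) ∧
  (∀ e : Q2 φ, (e : Sy φ) ∈ Z3 φ → ((e⁻¹ * γ e : Q2 φ) : Sy φ) ∈ Z2 φ) ∧
  (∀ e : Q2 φ, (e : Sy φ) ∈ Z2 φ → γ e = e)

theorem quo_Z3 {x y : Sy φ} (hx : x ∈ Q2 φ) (hy : y ∈ Q2 φ) : x⁻¹ * y ∈ Z3 φ ↔ y.x1 = x.x1 ∧ y.x5 = x.x5 := by
  have hx' : x.x6 = 0 := hx
  have hy' : y.x6 = 0 := hy
  rw [mem_Z3, mul_x1, mul_x6, mul_x5, inv_x1, inv_x6, inv_x5, hx', hy']
  simp only [zero_smul, neg_zero, add_zero]
  constructor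
  · rintro ⟨h1, -, h2⟩
    exact ⟨by linear_combination h1, by linear_combination h2⟩
  · rintro ⟨h1, h2⟩
    exact ⟨by rw [h1]; ring, trivial, by rw [h2]; ring⟩

theorem quo_Z2 {x y : Sy φ} (hx : x ∈ Z3 φ) (hy : y ∈ Z3 φ) : x⁻¹ * y ∈ Z2 φ ↔ y.x3 = x.x3 := by
  obtain ⟨a1, a2, a3⟩ := hx
  obtain ⟨b1, b2, b3⟩ := hy
  rw [mem_Z2, mul_x1, mul_x6, mul_x5, mul_x3, inv_x1, inv_x6, inv_x5, inv_x3, a1, a2, a3, b1, b2, b3]
  simp only [zero_smul, neg_zero, add_zero, cr_zero_left, sub_zero, smul_zero]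
  constructor
  · rintro ⟨-, -, -, h⟩
    linear_combination h
  · intro h
    exact ⟨trivial, trivial, trivial, by rw [h]; ring⟩

theorem tr2_iff (γ : MulAut (Q2 φ)) : Same2 γ 1 ↔ Tr2 γ := by
  constructor
  · rintro ⟨h1, h2, h3⟩
    refine ⟨fun e => ?_, fun e he => ?_, fun e he => ?_⟩
    · exact (quo_Z3 e.2 (γ e).2).2 (h1 e)
    · exact (quo_Z2 he (aut_Z3 γ he)).2 (h2 e he)
    · have ha := aut_Z2 γ he
      apply Subtype.ext
      ext
      · exact ha.1.trans he.1.symm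
      · exact ha.2.1.trans he.2.1.symm
      · exact ha.2.2.1.trans he.2.2.1.symm
      · exact ha.2.2.2.trans he.2.2.2.symm
      · exact (h3 e he).1
      · exact (h3 e he).2
  · rintro ⟨h1, h2, h3⟩
    refine ⟨fun e => ?_, fun e he => ?_, fun e he => ?_⟩
    · exact (quo_Z3 e.2 (γ e).2).1 (h1 e)
    · exact (quo_Z2 he (aut_Z3 γ he)).1 (h2 e he)
    · rw [h3 e he]
      exact ⟨rfl, rfl⟩

theorem coe_inv_mul (x y : Q2 φ) : ((x⁻¹ * y : Q2 φ) : Sy φ) = (x : Sy φ)⁻¹ * y := rfl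

variable (φ) in
/-- the stabilizer of the chain -/
def CC : Subgroup (MulAut (Q2 φ)) where
  carrier := {γ | Tr2 γ}
  one_mem' := by
    refine ⟨fun e => ?_, fun e he => ?_, fun e he => rfl⟩
    · rw [MulAut.one_apply, inv_mul_cancel]; exact one_mem _
    · rw [MulAut.one_apply, inv_mul_cancel]; exact one_mem _
  mul_mem' {γ δ} hγ hδ := by
    refine ⟨fun e => ?_, fun e he => ?_, fun e he => ?_⟩
    · have h1 := hδ.1 e
      have h2 := hγ.1 (δ e)
      have : e⁻¹ * (γ * δ) e = (e⁻¹ * δ e) * ((δ e)⁻¹ * γ (δ e)) := by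
        rw [MulAut.mul_apply]; group
      rw [this]
      exact mul_mem h1 h2
    · have h1 := hδ.2.1 e he
      have h2 := hγ.2.1 (δ e) (aut_Z3 δ he)
      have : e⁻¹ * (γ * δ) e = (e⁻¹ * δ e) * ((δ e)⁻¹ * γ (δ e)) := by
        rw [MulAut.mul_apply]; group
      rw [this]
      exact mul_mem h1 h2
    · rw [MulAut.mul_apply, hδ.2.2 e he, hγ.2.2 e he]
  inv_mem' {γ} hγ := by
    refine ⟨fun e => ?_, fun e he => ?_, fun e he => ?_⟩
    · have h1 := hγ.1 (γ⁻¹ e)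
      rw [inv_apply_self'] at h1
      have : e⁻¹ * γ⁻¹ e = ((γ⁻¹ e)⁻¹ * e)⁻¹ := by group
      rw [this]
      exact inv_mem h1
    · have h1 := hγ.2.1 (γ⁻¹ e) (aut_Z3 _ he)
      rw [inv_apply_self'] at h1
      have : e⁻¹ * γ⁻¹ e = ((γ⁻¹ e)⁻¹ * e)⁻¹ := by group
      rw [this]
      exact inv_mem h1
    · have h1 := hγ.2.2 (γ⁻¹ e) (aut_Z2 _ he)
      rw [inv_apply_self'] at h1
      exact h1.symm

theorem mem_CC {γ : MulAut (Q2 φ)} : γ ∈ CC φ ↔ Tr2 γ := Iff.rfl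

instance : (CC φ).Normal := ⟨fun γ hγ δ => by
  rw [mem_CC] at hγ ⊢
  refine ⟨fun e => ?_, fun e he => ?_, fun e he => ?_⟩
  · have h1 := aut_Z3 δ (hγ.1 (δ⁻¹ e))
    have : δ ((δ⁻¹ e)⁻¹ * γ (δ⁻¹ e)) = e⁻¹ * (δ * γ * δ⁻¹) e := by
      rw [map_mul, map_inv, inv_apply_self', MulAut.mul_apply, MulAut.mul_apply]
    rw [this] at h1
    exact h1
  · have h1 := aut_Z2 δ (hγ.2.1 (δ⁻¹ e) (aut_Z3 _ he))
    have : δ ((δ⁻¹ e)⁻¹ * γ (δ⁻¹ e)) = e⁻¹ * (δ * γ * δ⁻¹) e := by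
      rw [map_mul, map_inv, inv_apply_self', MulAut.mul_apply, MulAut.mul_apply]
    rw [this] at h1
    exact h1
  · rw [MulAut.mul_apply, MulAut.mul_apply, hγ.2.2 _ (aut_Z2 _ he), inv_apply_self']⟩

/-- iterating -/
theorem pow_apply_of_fix (γ : MulAut (Q2 φ)) (e : Q2 φ) (h : γ (e⁻¹ * γ e) = e⁻¹ * γ e) (k : ℕ) :
    (γ ^ k) e = e * (e⁻¹ * γ e) ^ k := by
  induction k with
  | zero => simp
  | succ k ih =>
    rw [pow_succ', MulAut.mul_apply, ih, map_mul, map_pow, h, pow_succ', ← mul_assoc, mul_inv_cancel_left]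

theorem isPGroup_CC {p : ℕ} [Finite (Sy φ)] (hp : IsPGroup p (⊤ : Subgroup (Sy φ))) : IsPGroup p (CC φ) := by
  have hel : ∀ x : Q2 φ, ∃ k : ℕ, x ^ p ^ k = 1 := by
    intro x
    obtain ⟨k, hk⟩ := hp ⟨(x : Sy φ), trivial⟩
    refine ⟨k, Subtype.ext ?_⟩
    have := congrArg Subtype.val hk
    simpa using this
  have hfin : Finite (Q2 φ) := inferInstance
  -- a common exponent
  obtain ⟨m, hm⟩ : ∃ m : ℕ, ∀ x : Q2 φ, x ^ p ^ m = 1 := by
    cases nonempty_fintype (Q2 φ)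
    choose k hk using hel
    refine ⟨Finset.univ.sup k, fun x => ?_⟩
    obtain ⟨j, hj⟩ := Nat.exists_eq_add_of_le (Finset.le_sup (f := k) (Finset.mem_univ x))
    rw [hj, pow_add, pow_mul, hk, one_pow]
  rintro ⟨γ, hγ⟩
  refine ⟨m + m, Subtype.ext ?_⟩
  rw [Subgroup.coe_pow, Subgroup.coe_one]
  -- `γ ^ p ^ m` is trivial on `Z₃`
  have h3 : ∀ e : Q2 φ, (e : Sy φ) ∈ Z3 φ → (γ ^ p ^ m) e = e := by
    intro e he
    rw [pow_apply_of_fix γ e (hγ.2.2 _ (hγ.2.1 e he)), hm, mul_one]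
  have h4 : γ ^ p ^ m ∈ CC φ := pow_mem hγ _
  apply MulEquiv.ext
  intro e
  rw [pow_add, pow_mul, pow_apply_of_fix _ e (h3 _ (h4.1 e)), hm, mul_one]
  rfl

/-! ### the torus -/

theorem isTor_mul {α β : MulAut (Sy φ)} {s s' : K} {t t' : F}
    (h : IsTor α s t (RingEquiv.refl K) (RingEquiv.refl F)) (h' : IsTor β s' t' (RingEquiv.refl K) (RingEquiv.refl F)) :
    IsTor (α * β) (s * s') (t * t') (RingEquiv.refl K) (RingEquiv.refl F) where
  nes := mul_ne_zero h.nes h'.nes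
  net := mul_ne_zero h.net h'.net
  res := fun _ => rfl
  x1 g := by rw [MulAut.mul_apply, h.x1, h'.x1]; simp only [RingEquiv.refl_apply]; ring
  x6 g := by rw [MulAut.mul_apply, h.x6, h'.x6]; simp only [RingEquiv.refl_apply]; ring
  x5 g := by rw [MulAut.mul_apply, h.x5, h'.x5]; simp only [RingEquiv.refl_apply]; cub
  x3 g := by rw [MulAut.mul_apply, h.x3, h'.x3]; simp only [RingEquiv.refl_apply]; cub
  x2 g := by
    rw [MulAut.mul_apply, h.x2, h'.x2]; simp only [RingEquiv.refl_apply]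
    rw [nm_mul]; ring
  x4 g := by
    rw [MulAut.mul_apply, h.x4, h'.x4]; simp only [RingEquiv.refl_apply]
    rw [nm_mul]; ring

theorem isTor_unique {α β : MulAut (Sy φ)} {s : K} {t : F} {τ : K ≃+* K} {ρ : F ≃+* F}
    (h : IsTor α s t τ ρ) (h' : IsTor β s t τ ρ) : α = β := by
  apply MulEquiv.ext
  intro g
  ext
  · rw [h.x1, h'.x1]
  · rw [h.x6, h'.x6]
  · rw [h.x5, h'.x5]
  · rw [h.x3, h'.x3]
  · rw [h.x2, h'.x2]
  · rw [h.x4, h'.x4]

theorem sh_one : sh φ (1 : K) = 1 := by cub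

theorem isTor_one : IsTor (1 : MulAut (Sy φ)) 1 1 (RingEquiv.refl K) (RingEquiv.refl F) where
  nes := one_ne_zero
  net := one_ne_zero
  res := fun _ => rfl
  x1 g := by simp
  x6 g := by simp
  x5 g := by simp
  x3 g := by simp [sh_one]
  x2 g := by simp [nm_one]
  x4 g := by simp [nm_one]

theorem isTor_pow {α : MulAut (Sy φ)} {s : K} {t : F} (h : IsTor α s t (RingEquiv.refl K) (RingEquiv.refl F)) (k : ℕ) :
    IsTor (α ^ k) (s ^ k) (t ^ k) (RingEquiv.refl K) (RingEquiv.refl F) := by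
  induction k with
  | zero => simpa using isTor_one
  | succ k ih => rw [pow_succ, pow_succ, pow_succ]; exact isTor_mul ih h

theorem isTor_inv {α : MulAut (Sy φ)} {s : K} {t : F} (h : IsTor α s t (RingEquiv.refl K) (RingEquiv.refl F)) :
    IsTor (α⁻¹) s⁻¹ t⁻¹ (RingEquiv.refl K) (RingEquiv.refl F) := by
  have hs := h.nes
  have ht := h.net
  have key : ∀ g : Sy φ, α (α⁻¹ g) = g := fun g => MulAut.apply_inv_self _ α g
  have hn : nm φ s ≠ 0 := fun e => hs ((nm_eq_zero φ).1 e)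
  have hnn : nm φ s⁻¹ * nm φ s = 1 := by rw [← nm_mul, inv_mul_cancel₀ hs, nm_one]
  have hsh : sh φ s⁻¹ * sh φ s = 1 := by rw [← sh_mul, inv_mul_cancel₀ hs, sh_one]
  have htt : algebraMap F K t⁻¹ * algebraMap F K t = 1 := by rw [← map_mul, inv_mul_cancel₀ ht, map_one]
  refine ⟨inv_ne_zero hs, inv_ne_zero ht, fun _ => rfl, fun g => ?_, fun g => ?_, fun g => ?_, fun g => ?_, fun g => ?_,
    fun g => ?_⟩
  · have e := h.x1 (α⁻¹ g)
    rw [key] at e
    simp only [RingEquiv.refl_apply] at e ⊢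
    rw [e, inv_mul_cancel_left₀ hs]
  · have e := h.x6 (α⁻¹ g)
    rw [key] at e
    simp only [RingEquiv.refl_apply] at e ⊢
    rw [e, inv_mul_cancel_left₀ ht]
  · have e := h.x5 (α⁻¹ g)
    rw [key] at e
    simp only [RingEquiv.refl_apply, Algebra.smul_def] at e ⊢
    rw [e]
    have : algebraMap F K t⁻¹ * (s⁻¹ * (algebraMap F K t * (s * (α⁻¹ g).x5))) =
      (algebraMap F K t⁻¹ * algebraMap F K t) * (s⁻¹ * s) * (α⁻¹ g).x5 := by ring
    rw [this, htt, inv_mul_cancel₀ hs]; ring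
  · have e := h.x3 (α⁻¹ g)
    rw [key] at e
    simp only [RingEquiv.refl_apply, Algebra.smul_def] at e ⊢
    rw [e]
    have : algebraMap F K t⁻¹ * (sh φ s⁻¹ * (algebraMap F K t * (sh φ s * (α⁻¹ g).x3))) =
      (algebraMap F K t⁻¹ * algebraMap F K t) * (sh φ s⁻¹ * sh φ s) * (α⁻¹ g).x3 := by ring
    rw [this, htt, hsh]; ring
  · have e := h.x2 (α⁻¹ g)
    rw [key] at e
    simp only [RingEquiv.refl_apply] at e ⊢
    rw [e]
    have : nm φ s⁻¹ * t⁻¹ * (nm φ s * t * (α⁻¹ g).x2) = (nm φ s⁻¹ * nm φ s) * (t⁻¹ * t) * (α⁻¹ g).x2 := by ring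
    rw [this, hnn, inv_mul_cancel₀ ht]; ring
  · have e := h.x4 (α⁻¹ g)
    rw [key] at e
    simp only [RingEquiv.refl_apply] at e ⊢
    rw [e]
    have : nm φ s⁻¹ * t⁻¹ ^ 2 * (nm φ s * t ^ 2 * (α⁻¹ g).x4) =
      (nm φ s⁻¹ * nm φ s) * (t⁻¹ * t) ^ 2 * (α⁻¹ g).x4 := by ring
    rw [this, hnn, inv_mul_cancel₀ ht]; ring

variable (φ) in
/-- the restrictions of the torus elements to `Q₂` -/
def DD : Subgroup (MulAut (Q2 φ)) where
  carrier := {δ | ∃ s t, ∃ α : MulAut (Sy φ), IsTor α s t (RingEquiv.refl K) (RingEquiv.refl F) ∧ IsR α δ}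
  one_mem' := ⟨1, 1, 1, isTor_one, fun _ => rfl⟩
  mul_mem' {γ δ} hγ hδ := by
    obtain ⟨s, t, α, h1, h2⟩ := hγ
    obtain ⟨s', t', β, h1', h2'⟩ := hδ
    refine ⟨s * s', t * t', α * β, isTor_mul h1 h1', fun e => ?_⟩
    rw [MulAut.mul_apply, MulAut.mul_apply, h2, h2']
  inv_mem' {γ} hγ := by
    obtain ⟨s, t, α, h1, h2⟩ := hγ
    refine ⟨s⁻¹, t⁻¹, α⁻¹, isTor_inv h1, fun e => ?_⟩
    apply α.injective
    rw [← h2, inv_apply_self']
    exact (MulAut.apply_inv_self _ α _).symm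

theorem mem_DD {δ : MulAut (Q2 φ)} : δ ∈ DD φ ↔
    ∃ s t, ∃ α : MulAut (Sy φ), IsTor α s t (RingEquiv.refl K) (RingEquiv.refl F) ∧ IsR α δ := Iff.rfl

/-- restriction to `Q₂` -/
noncomputable def res2 (α : MulAut (Sy φ)) : MulAut (Q2 φ) where
  toFun e := ⟨α e, map_Q2 α e.2⟩
  invFun e := ⟨α.symm e, map_Q2 α.symm e.2⟩
  left_inv _ := Subtype.ext (α.symm_apply_apply _)
  right_inv _ := Subtype.ext (α.apply_symm_apply _)
  map_mul' _ _ := Subtype.ext (map_mul α _ _)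

theorem isR_res2 (α : MulAut (Sy φ)) : IsR α (res2 α) := fun _ => rfl

theorem isR_ext {α : MulAut (Sy φ)} {γ δ : MulAut (Q2 φ)} (h : IsR α γ) (h' : IsR α δ) : γ = δ := by
  apply MulEquiv.ext
  intro e
  apply Subtype.ext
  rw [h, h']

theorem fin_F {p n : ℕ} (h : HypD φ p n) : Finite F :=
  Nat.finite_of_card_ne_zero (by rw [h.card]; exact pow_ne_zero _ h.pp.ne_zero)

theorem card_DD {p n : ℕ} (h : HypD φ p n) : (Nat.card (DD φ)).Coprime p := by
  have := h.fin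
  have := fin_F h
  have : Fact p.Prime := ⟨h.pp⟩
  have : Finite (Q2 φ) := inferInstance
  have : Finite (MulAut (Q2 φ)) := inferInstance
  cases nonempty_fintype K
  have hp : p ∣ Nat.card K := by
    rw [h.cardK, ← pow_mul]
    exact dvd_pow_self _ (by have := h.hn; omega)
  have hK1 : 1 < Nat.card K := Finite.one_lt_card
  rw [Nat.coprime_comm, (Nat.Prime.coprime_iff_not_dvd h.pp)]
  intro hd
  obtain ⟨⟨δ, hδ⟩, ho⟩ := exists_prime_orderOf_dvd_card' p hd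
  obtain ⟨s, t, α, h1, h2⟩ := hδ
  have hs : s ^ (Nat.card K - 1) = 1 := by
    rw [Nat.card_eq_fintype_card]; exact FiniteField.pow_card_sub_one_eq_one s h1.nes
  have ht : t ^ (Nat.card K - 1) = 1 := by
    apply (algebraMap F K).injective
    rw [map_pow, map_one, Nat.card_eq_fintype_card]
    exact FiniteField.pow_card_sub_one_eq_one _ (by simpa using h1.net)
  have h3 := isTor_pow h1 (Nat.card K - 1)
  rw [hs, ht] at h3
  have h4 : α ^ (Nat.card K - 1) = 1 := isTor_unique h3 isTor_one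
  have h5 : δ ^ (Nat.card K - 1) = 1 := by
    apply MulEquiv.ext
    intro e
    apply Subtype.ext
    have : ∀ k : ℕ, ∀ e : Q2 φ, (((δ ^ k) e : Q2 φ) : Sy φ) = (α ^ k) e := by
      intro k
      induction k with
      | zero => intro e; rfl
      | succ k ih => intro e; rw [pow_succ', pow_succ', MulAut.mul_apply, MulAut.mul_apply, h2, ih]
    rw [this, h4]
    rfl
  have h6 : orderOf (⟨δ, ⟨s, t, α, h1, h2⟩⟩ : DD φ) ∣ Nat.card K - 1 :=
    orderOf_dvd_of_pow_eq_one (Subtype.ext h5)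
  rw [ho] at h6
  have h7 : p ∣ 1 := by
    have h8 := Nat.dvd_sub hp h6
    have h9 : Nat.card K - (Nat.card K - 1) = 1 := by omega
    rwa [h9] at h8
  exact h.pp.one_lt.ne' (Nat.dvd_one.1 h7)

/-! ### no fixed points -/

/-- additive maps `K → F` whose kernel is stable under multiplication -/
theorem ker_arg [Finite K] [Finite F] (hlt : Nat.card F < Nat.card K) (f : K → F) (hadd : ∀ a b, f (a + b) = f a + f b)
    (hst : ∀ s : K, s ≠ 0 → ∀ a, f a = 0 → f (s * a) = 0) : ∀ a, f a = 0 := by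
  have hni : ¬ Function.Injective f := fun hi => absurd (Nat.card_le_card_of_injective f hi) (not_le.2 hlt)
  rw [Function.Injective] at hni
  push Not at hni
  obtain ⟨a, b, hab, hne⟩ := hni
  have h0 : f 0 = 0 := by
    have := hadd 0 0
    simpa using this
  have hsub : f (a - b) = 0 := by
    have := hadd (a - b) b
    rw [sub_add_cancel, hab] at this
    linear_combination -this
  intro c
  by_cases hc : c = 0
  · rw [hc, h0]
  have := hst (c / (a - b)) (div_ne_zero hc (sub_ne_zero.2 hne)) (a - b) hsub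
  rwa [div_mul_cancel₀ _ (sub_ne_zero.2 hne)] at this

variable (φ) in
theorem sh_arg (f : K → K) (hadd : ∀ a b, f (a + b) = f a + f b)
    (hst : ∀ s : K, s ≠ 0 → ∀ a, f (s * a) = sh φ s * f a) : ∀ a, f a = 0 := by
  have h0 : f 0 = 0 := by
    have := hadd 0 0
    simpa using this
  have h1 : ∀ s, f s = sh φ s * f 1 := by
    intro s
    by_cases hs : s = 0
    · rw [hs, h0, sh_zero, zero_mul]
    · have := hst s hs 1
      rwa [mul_one] at this
  have h2 : ∀ s s' : K, cr φ s s' * f 1 = 0 := by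
    intro s s'
    have := hadd s s'
    rw [h1 (s + s'), h1 s, h1 s', sh_add] at this
    linear_combination this
  have h3 : f 1 = 0 := by
    by_contra hne
    exact one_ne_zero (cr_nondeg φ (c := (1 : K)) fun a => (mul_eq_zero.1 (h2 a 1)).resolve_right hne)
  intro a
  rw [h1, h3, mul_zero]

/-- `u1 a` in `Q₂` -/
def e1 (φ : K ≃ₐ[F] K) [Cub φ] (a : K) : Q2 φ := ⟨u1 φ a, u1_mem a⟩

/-- `u5 a` in `Q₂` -/
def e5 (φ : K ≃ₐ[F] K) [Cub φ] (a : K) : Q2 φ := ⟨u5 φ a, Z4_le_Q2 (u5_mem a)⟩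

theorem same2_of_CC {γ : MulAut (Q2 φ)} (h : γ ∈ CC φ) : Same2 γ 1 := (tr2_iff γ).2 h

theorem fix_e1 {p n : ℕ} (h : HypD φ p n)
    (hex : ∀ (s : K) (t : F), s ≠ 0 → t ≠ 0 →
      ∃ α : MulAut (Sy φ), IsTor α s t (RingEquiv.refl K) (RingEquiv.refl F))
    {c : MulAut (Q2 φ)} (hc : c ∈ CC φ) (hD : ∀ d ∈ DD φ, d * c = c * d) (a : K) : c (e1 φ a) = e1 φ a := by
  have := h.fin
  have := fin_F h
  have hlt : Nat.card F < Nat.card K := by
    rw [h.card, h.cardK]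
    have h1 : 1 < p ^ n := Nat.one_lt_pow (by have := h.hn; omega) h.pp.one_lt
    calc p ^ n = (p ^ n) ^ 1 := (pow_one _).symm
      _ < (p ^ n) ^ 3 := Nat.pow_lt_pow_right h1 (by norm_num)
  have hS := same2_of_CC hc
  have hx1 : ∀ a, ((c (e1 φ a) : Q2 φ) : Sy φ).x1 = a := fun a => (hS.1 (e1 φ a)).1
  have hx5 : ∀ a, ((c (e1 φ a) : Q2 φ) : Sy φ).x5 = 0 := fun a => (hS.1 (e1 φ a)).2
  have hx6 : ∀ a, ((c (e1 φ a) : Q2 φ) : Sy φ).x6 = 0 := fun a => (c (e1 φ a)).2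
  have heq : ∀ s : K, s ≠ 0 → ∀ a, ∃ α : MulAut (Sy φ), IsTor α s 1 (RingEquiv.refl K) (RingEquiv.refl F) ∧
      ((c (e1 φ (s * a)) : Q2 φ) : Sy φ) = α (c (e1 φ a) : Q2 φ) := by
    intro s hs a
    obtain ⟨α, hα⟩ := hex s 1 hs one_ne_zero
    refine ⟨α, hα, ?_⟩
    have h1 := hD (res2 α) ⟨s, 1, α, hα, isR_res2 α⟩
    have h2 := congrArg (fun γ : MulAut (Q2 φ) => ((γ (e1 φ a) : Q2 φ) : Sy φ)) h1
    simp only [MulAut.mul_apply] at h2
    rw [isR_res2 α (c (e1 φ a))] at h2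
    rw [h2]
    have h3 : res2 α (e1 φ a) = e1 φ (s * a) := by
      apply Subtype.ext
      rw [isR_res2 α]
      ext
      · rw [hα.x1]; rfl
      · rw [hα.x6]; simp [e1, u1]
      · rw [hα.x5]; simp [e1, u1]
      · rw [hα.x3]; simp [e1, u1]
      · rw [hα.x2]; simp [e1, u1]
      · rw [hα.x4]; simp [e1, u1]
    rw [h3]
  have hadd : ∀ a b, ((c (e1 φ (a + b)) : Q2 φ) : Sy φ) = (c (e1 φ a) : Q2 φ) * (c (e1 φ b) : Q2 φ) := by
    intro a b
    have : e1 φ (a + b) = e1 φ a * e1 φ b := Subtype.ext (u1_add a b)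
    rw [this, map_mul]
    rfl
  have hA := sh_arg φ (fun a => ((c (e1 φ a) : Q2 φ) : Sy φ).x3)
    (fun a b => by
      have := congrArg Sy.x3 (hadd a b)
      rw [mul_x3, hx5, hx6, cr_zero_right, zero_smul, add_zero, add_zero] at this
      exact this)
    (fun s hs a => by
      obtain ⟨α, hα, h1⟩ := heq s hs a
      have := congrArg Sy.x3 h1
      rw [hα.x3, one_smul] at this
      exact this)
  have hB := ker_arg hlt (fun a => ((c (e1 φ a) : Q2 φ) : Sy φ).x2)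
    (fun a b => by
      have := congrArg Sy.x2 (hadd a b)
      rw [mul_x2, hx5, hx6, hA b, mul_zero, mul_zero, tr_zero, zero_mul, add_zero, add_zero, add_zero] at this
      exact this)
    (fun s hs a ha => by
      obtain ⟨α, hα, h1⟩ := heq s hs a
      have := congrArg Sy.x2 h1
      rw [hα.x2] at this
      simp only [RingEquiv.refl_apply] at this ha ⊢
      rw [ha, mul_zero] at this
      exact this)
  have hC := ker_arg hlt (fun a => ((c (e1 φ a) : Q2 φ) : Sy φ).x4)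
    (fun a b => by
      have := congrArg Sy.x4 (hadd a b)
      rw [mul_x4, hx5, hx6, hA a] at this
      simp only [sh_zero, mul_zero, zero_mul, tr_zero, add_zero, sub_zero, ne_eq, OfNat.ofNat_ne_zero,
        not_false_eq_true, zero_pow] at this
      exact this)
    (fun s hs a ha => by
      obtain ⟨α, hα, h1⟩ := heq s hs a
      have := congrArg Sy.x4 h1
      rw [hα.x4] at this
      simp only [RingEquiv.refl_apply] at this ha ⊢
      rw [ha, mul_zero] at this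
      exact this)
  apply Subtype.ext
  ext
  · exact hx1 a
  · exact hx6 a
  · exact hx5 a
  · exact hA a
  · exact hB a
  · exact hC a

theorem fix_e5 {p n : ℕ} (h : HypD φ p n)
    (hex : ∀ (s : K) (t : F), s ≠ 0 → t ≠ 0 →
      ∃ α : MulAut (Sy φ), IsTor α s t (RingEquiv.refl K) (RingEquiv.refl F))
    {c : MulAut (Q2 φ)} (hc : c ∈ CC φ) (hD : ∀ d ∈ DD φ, d * c = c * d) (a : K) : c (e5 φ a) = e5 φ a := by
  have := h.fin
  have := fin_F h
  have hlt : Nat.card F < Nat.card K := by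
    rw [h.card, h.cardK]
    have h1 : 1 < p ^ n := Nat.one_lt_pow (by have := h.hn; omega) h.pp.one_lt
    calc p ^ n = (p ^ n) ^ 1 := (pow_one _).symm
      _ < (p ^ n) ^ 3 := Nat.pow_lt_pow_right h1 (by norm_num)
  have hS := same2_of_CC hc
  have hx1 : ∀ a, ((c (e5 φ a) : Q2 φ) : Sy φ).x1 = 0 := fun a => (hS.1 (e5 φ a)).1
  have hx5 : ∀ a, ((c (e5 φ a) : Q2 φ) : Sy φ).x5 = a := fun a => (hS.1 (e5 φ a)).2
  have hx6 : ∀ a, ((c (e5 φ a) : Q2 φ) : Sy φ).x6 = 0 := fun a => (c (e5 φ a)).2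
  have heq : ∀ s : K, s ≠ 0 → ∀ a, ∃ α : MulAut (Sy φ), IsTor α s 1 (RingEquiv.refl K) (RingEquiv.refl F) ∧
      ((c (e5 φ (s * a)) : Q2 φ) : Sy φ) = α (c (e5 φ a) : Q2 φ) := by
    intro s hs a
    obtain ⟨α, hα⟩ := hex s 1 hs one_ne_zero
    refine ⟨α, hα, ?_⟩
    have h1 := hD (res2 α) ⟨s, 1, α, hα, isR_res2 α⟩
    have h2 := congrArg (fun γ : MulAut (Q2 φ) => ((γ (e5 φ a) : Q2 φ) : Sy φ)) h1
    simp only [MulAut.mul_apply] at h2
    rw [isR_res2 α (c (e5 φ a))] at h2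
    rw [h2]
    have h3 : res2 α (e5 φ a) = e5 φ (s * a) := by
      apply Subtype.ext
      rw [isR_res2 α]
      ext
      · rw [hα.x1]; simp [e5, u5]
      · rw [hα.x6]; simp [e5, u5]
      · rw [hα.x5]; simp [e5, u5]
      · rw [hα.x3]; simp [e5, u5]
      · rw [hα.x2]; simp [e5, u5]
      · rw [hα.x4]; simp [e5, u5]
    rw [h3]
  have hadd : ∀ a b, ((c (e5 φ (a + b)) : Q2 φ) : Sy φ) = (c (e5 φ a) : Q2 φ) * (c (e5 φ b) : Q2 φ) := by
    intro a b
    have : e5 φ (a + b) = e5 φ a * e5 φ b := Subtype.ext (u5_add a b)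
    rw [this, map_mul]
    rfl
  have hA := sh_arg φ (fun a => ((c (e5 φ a) : Q2 φ) : Sy φ).x3)
    (fun a b => by
      have := congrArg Sy.x3 (hadd a b)
      rw [mul_x3, hx1, hx6, cr_zero_left, zero_smul, add_zero, add_zero] at this
      exact this)
    (fun s hs a => by
      obtain ⟨α, hα, h1⟩ := heq s hs a
      have := congrArg Sy.x3 h1
      rw [hα.x3, one_smul] at this
      exact this)
  have hB := ker_arg hlt (fun a => ((c (e5 φ a) : Q2 φ) : Sy φ).x2)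
    (fun a b => by
      have := congrArg Sy.x2 (hadd a b)
      rw [mul_x2, hx1, hx6, sh_zero, zero_mul, zero_mul, tr_zero, zero_mul, add_zero, add_zero, add_zero] at this
      exact this)
    (fun s hs a ha => by
      obtain ⟨α, hα, h1⟩ := heq s hs a
      have := congrArg Sy.x2 h1
      rw [hα.x2] at this
      simp only [RingEquiv.refl_apply] at this ha ⊢
      rw [ha, mul_zero] at this
      exact this)
  have hC := ker_arg hlt (fun a => ((c (e5 φ a) : Q2 φ) : Sy φ).x4)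
    (fun a b => by
      have := congrArg Sy.x4 (hadd a b)
      rw [mul_x4, hx1, hx6, hA a] at this
      simp only [sh_zero, mul_zero, zero_mul, tr_zero, add_zero, sub_zero, ne_eq, OfNat.ofNat_ne_zero,
        not_false_eq_true, zero_pow] at this
      exact this)
    (fun s hs a ha => by
      obtain ⟨α, hα, h1⟩ := heq s hs a
      have := congrArg Sy.x4 h1
      rw [hα.x4] at this
      simp only [RingEquiv.refl_apply] at this ha ⊢
      rw [ha, mul_zero] at this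
      exact this)
  apply Subtype.ext
  ext
  · exact hx1 a
  · exact hx6 a
  · exact hx5 a
  · exact hA a
  · exact hB a
  · exact hC a

/-- `C_C(D₁) = 1` -/
theorem fix_all {p n : ℕ} (h : HypD φ p n)
    (hex : ∀ (s : K) (t : F), s ≠ 0 → t ≠ 0 →
      ∃ α : MulAut (Sy φ), IsTor α s t (RingEquiv.refl K) (RingEquiv.refl F))
    {c : MulAut (Q2 φ)} (hc : c ∈ CC φ) (hD : ∀ d ∈ DD φ, d * c = c * d) : c = 1 := by
  have h1 := fix_e1 h hex hc hD
  have h5 := fix_e5 h hex hc hD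
  have h3 : ∀ z : Q2 φ, (z : Sy φ) ∈ Z3 φ → c z = z := by
    intro z hz
    obtain ⟨a, b, b', hs⟩ := exists_cr_add φ (z : Sy φ).x3
    set y : Q2 φ := ⁅e1 φ a, e5 φ b⁆ * ⁅e1 φ 1, e5 φ b'⁆ with hy
    have hcy : c y = y := by
      rw [hy, map_mul, map_comm', map_comm', h1, h5, h1, h5]
    have hyS : (y : Sy φ) = ⁅u1 φ a, u5 φ b⁆ * ⁅u1 φ 1, u5 φ b'⁆ := rfl
    have hy3 : (y : Sy φ) ∈ Z3 φ := by
      rw [hyS]
      exact mul_mem (comm_mem_Z3 (u5_mem _)) (comm_mem_Z3 (u5_mem _))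
    have hx3 : (z : Sy φ).x3 = (y : Sy φ).x3 := by
      rw [hyS, mul_x3, (comm_mem_Z3 (x := u1 φ a) (u5_mem (φ := φ) b)).1,
        (comm_mem_Z3 (x := u1 φ 1) (u5_mem (φ := φ) b')).2.1, comm_x3 (u5_mem _), comm_x3 (u5_mem _),
        cr_zero_left, zero_smul, add_zero, add_zero]
      exact hs
    have h6 : ((y⁻¹ * z : Q2 φ) : Sy φ) ∈ Z2 φ := (quo_Z2 hy3 hz).2 hx3
    have h7 := hc.2.2 _ h6
    calc c z = c (y * (y⁻¹ * z)) := by rw [mul_inv_cancel_left]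
      _ = z := by rw [map_mul, hcy, h7, mul_inv_cancel_left]
  apply MulEquiv.ext
  intro e
  set y : Q2 φ := e5 φ (e : Sy φ).x5 * e1 φ (e : Sy φ).x1 with hy
  have hcy : c y = y := by rw [hy, map_mul, h1, h5]
  have hyS : (y : Sy φ) = u5 φ (e : Sy φ).x5 * u1 φ (e : Sy φ).x1 := rfl
  have h6 : ((y⁻¹ * e : Q2 φ) : Sy φ) ∈ Z3 φ := by
    refine (quo_Z3 y.2 e.2).2 ⟨?_, ?_⟩
    · rw [hyS, mul_x1]; simp [u5, u1]
    · rw [hyS, mul_x5]; simp [u5, u1]
  have h7 := h3 _ h6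
  calc c e = c (y * (y⁻¹ * e)) := by rw [mul_inv_cancel_left]
    _ = e := by rw [map_mul, hcy, h7, mul_inv_cancel_left]

/-! ### the Weyl element normalizes the torus -/

theorem w2_norm (hex : ∀ (s : K) (t : F), s ≠ 0 → t ≠ 0 →
      ∃ α : MulAut (Sy φ), IsTor α s t (RingEquiv.refl K) (RingEquiv.refl F))
    {w : MulAut (Q2 φ)} (hw : IsW2 w) {d : MulAut (Q2 φ)} (hd : d ∈ DD φ) : w * d * w⁻¹ ∈ DD φ := by
  obtain ⟨s, t, α, h1, h2⟩ := hd
  have hs := h1.nes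
  have ht := h1.net
  have htK : algebraMap F K t ≠ 0 := by simpa using ht
  obtain ⟨β, hβ⟩ := hex (s * algebraMap F K t) t⁻¹ (mul_ne_zero hs htK) (inv_ne_zero ht)
  have htt : algebraMap F K t⁻¹ * algebraMap F K t = 1 := by rw [← map_mul, inv_mul_cancel₀ ht, map_one]
  have key : w * d = res2 β * w := by
    apply MulEquiv.ext
    intro e
    apply Subtype.ext
    rw [MulAut.mul_apply, MulAut.mul_apply, isR_res2 β]
    ext
    · rw [hw.x1, h2, h1.x5, hβ.x1, hw.x1]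
      simp only [RingEquiv.refl_apply]
      cub
    · rw [hβ.x6, show ((w e : Q2 φ) : Sy φ).x6 = 0 from (w e).2,
        show ((w (d e) : Q2 φ) : Sy φ).x6 = 0 from (w (d e)).2]
      simp
    · rw [hw.x5, h2, h1.x1, hβ.x5, hw.x5]
      simp only [RingEquiv.refl_apply, Algebra.smul_def]
      linear_combination (-(s * (e : Sy φ).x1)) * htt
    · rw [hw.x3, h2, h1.x3, h1.x1, h1.x5, hβ.x3, hw.x3]
      simp only [RingEquiv.refl_apply, Algebra.smul_def, sh, cr, map_mul, phi_coe]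
      linear_combination (-(algebraMap F K t * φ s * φ (φ s) * ((e : Sy φ).x3 -
        (φ (e : Sy φ).x1 * φ (φ (e : Sy φ).x5) + φ (φ (e : Sy φ).x1) * φ (e : Sy φ).x5)))) * htt
    · rw [hw.x2, h2, h1.x4, h1.x3, h1.x1, h1.x5, hβ.x2, hw.x2]
      simp only [RingEquiv.refl_apply]
      have e1 : nm φ (s * algebraMap F K t) * t⁻¹ = nm φ s * t ^ 2 := by
        have : nm φ (algebraMap F K t) = t ^ 3 := by
          apply FK_inj φ
          rw [coe_nm, phi_coe, phi_coe, map_pow]; ring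
        rw [nm_mul, this]
        field_simp
      rw [e1]
      apply FK_inj φ
      cub
    · rw [hw.x4, h2, h1.x2, h1.x3, h1.x1, h1.x5, hβ.x4, hw.x4]
      simp only [RingEquiv.refl_apply]
      have e1 : nm φ (s * algebraMap F K t) * t⁻¹ ^ 2 = nm φ s * t := by
        have : nm φ (algebraMap F K t) = t ^ 3 := by
          apply FK_inj φ
          rw [coe_nm, phi_coe, phi_coe, map_pow]; ring
        rw [nm_mul, this]
        field_simp
      rw [e1]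
      apply FK_inj φ
      cub
  rw [key, mul_assoc, mul_inv_cancel, mul_one]
  exact ⟨_, _, β, hβ, isR_res2 β⟩

theorem mem_CC_of_same {γ δ : MulAut (Q2 φ)} (h : Same2 γ δ) : γ * δ⁻¹ ∈ CC φ := by
  rw [mem_CC, ← tr2_iff]
  obtain ⟨h1, h2, h3⟩ := h
  refine ⟨fun e => ?_, fun e he => ?_, fun e he => ?_⟩
  · have := h1 (δ⁻¹ e)
    rw [inv_apply_self'] at this
    exact this
  · have := h2 (δ⁻¹ e) (aut_Z3 _ he)
    rw [inv_apply_self'] at this
    exact this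
  · have := h3 (δ⁻¹ e) (aut_Z2 _ he)
    rw [inv_apply_self'] at this
    exact this

/-- (D3-L2) -/
theorem st_L2 (hA : StL2a.{u}) (hN : StNLift.{u}) (hG : StGrpD.{u}) : StL2.{u} := by
  intro F K _ _ _ φ _ p n h Γ D hP hT γ
  obtain ⟨-, h1, h2⟩ := hA h Γ D hP
  obtain ⟨-, hpg, hex', -, -, -⟩ := hG h
  have hex : ∀ (s : K) (t : F), s ≠ 0 → t ≠ 0 →
      ∃ α : MulAut (Sy φ), IsTor α s t (RingEquiv.refl K) (RingEquiv.refl F) :=
    fun s t hs ht => hex' s t _ _ hs ht fun _ => rfl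
  have := h.fin
  have := fin_F h
  have : Fact p.Prime := ⟨h.pp⟩
  have : Finite (Q2 φ) := inferInstance
  have : Finite (MulAut (Q2 φ)) := inferInstance
  have hCp : IsPGroup p (CC φ) := isPGroup_CC hpg
  have hDD : DD φ ≤ Γ := by
    rintro δ ⟨s, t, α, h1, h2⟩
    exact hP.D_res α (hT s t α h1) δ h2
  have hLam : Lam2 φ ≤ Γ := by
    refine sup_le hP.indu ((Subgroup.closure_le _).2 fun w hw => ?_)
    have hw' : IsW2 w := hw
    obtain ⟨γ0, hγ0, hs⟩ := h1 w (Subgroup.mem_sup_right (Subgroup.subset_closure hw))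
    refine hN (CC φ) Γ (DD φ) inferInstance hCp hDD (card_DD h) (fun c hc hd => fix_all h hex hc hd) w γ0 hγ0 ?_
      fun d hd => w2_norm hex hw' hd
    have := (CC φ).inv_mem (mem_CC_of_same hs)
    rwa [mul_inv_rev, inv_inv] at this
  constructor
  · intro hγ
    obtain ⟨l, hl, d, hd, δ, hδ, hs⟩ := h2 γ hγ
    have hδΓ : δ ∈ Γ := hP.D_res d hd δ hδ
    have hc : γ * (l * δ)⁻¹ ∈ CC φ ⊓ Γ :=
      ⟨mem_CC_of_same hs, Γ.mul_mem hγ (Γ.inv_mem (Γ.mul_mem (hLam hl) hδΓ))⟩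
    obtain ⟨g, hg, hg'⟩ := hP.syl (CC φ ⊓ Γ) inf_le_right (hCp.to_le inf_le_left)
    have hc' : g⁻¹ * (γ * (l * δ)⁻¹) * g ∈ CC φ ⊓ Γ := by
      refine ⟨?_, Γ.mul_mem (Γ.mul_mem (Γ.inv_mem hg) hc.2) hg⟩
      have := (inferInstance : (CC φ).Normal).conj_mem _ hc.1 g⁻¹
      rwa [inv_inv] at this
    have h3 := hg' _ hc'
    have h4 : g * (g⁻¹ * (γ * (l * δ)⁻¹) * g) * g⁻¹ = γ * (l * δ)⁻¹ := by group
    rw [h4] at h3
    refine ⟨γ * (l * δ)⁻¹ * l, mul_mem (Subgroup.mem_sup_left h3) hl, d, hd, δ, hδ, ?_⟩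
    group
  · rintro ⟨l, hl, d, hd, δ, hδ, rfl⟩
    exact mul_mem (hLam hl) (hP.D_res d hd δ hδ)

end Cfsg.Agent.H640.D4
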